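import Groth.Agent.Lib.Misc6.AffinePushout
import Mathlib.AlgebraicGeometry.AffineTransitionLimit
import Mathlib.AlgebraicGeometry.Morphisms.FinitePresentation
import Mathlib.CategoryTheory.Monoidal.Cartesian.Over
import Mathlib.CategoryTheory.Monoidal.Cartesian.Grp
import Mathlib.Algebra.Category.Ring.FilteredColimits
import Mathlib.Algebra.Category.Ring.Colimits
import Mathlib.CategoryTheory.Limits.Types.Filtered
import Mathlib.RingTheory.Polynomial.Basic

/-!
# Points of a scheme over `Spec R` in `R`-algebras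
-/

universe u

open CategoryTheory Limits AlgebraicGeometry Opposite MonObj

namespace GrothLib.QuillenG21

noncomputable section

variable {R : Type u} [CommRing R]

/-- `Spec C` over `Spec R`. -/
abbrev sp (C : Type u) [CommRing C] [Algebra R C] : Over (Spec (CommRingCat.of R)) :=
  Over.mk (Spec.map (CommRingCat.ofHom (algebraMap R C)))

variable {A B C D : Type u} [CommRing A] [CommRing B] [CommRing C] [CommRing D]
  [Algebra R A] [Algebra R B] [Algebra R C] [Algebra R D]

/-- The map of spectra of an algebra map. -/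
def spMap (f : A →ₐ[R] B) : sp (R := R) B ⟶ sp A :=
  Over.homMk (Spec.map (CommRingCat.ofHom f.toRingHom)) (by
    show Spec.map _ ≫ Spec.map _ = Spec.map _
    rw [← Spec.map_comp, ← CommRingCat.ofHom_comp,
      show f.toRingHom.comp (algebraMap R A) = algebraMap R B from f.comp_algebraMap])

theorem spMap_left (f : A →ₐ[R] B) : (spMap f).left = Spec.map (CommRingCat.ofHom f.toRingHom) := rfl

theorem spMap_comp (f : A →ₐ[R] B) (g : B →ₐ[R] C) : spMap (g.comp f) = spMap g ≫ spMap f := by
  refine Over.OverMorphism.ext ?_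
  show Spec.map _ = Spec.map _ ≫ Spec.map _
  rw [← Spec.map_comp]
  rfl

theorem spMap_id : spMap (AlgHom.id R A) = 𝟙 (sp (R := R) A) := by
  refine Over.OverMorphism.ext ?_
  show Spec.map (CommRingCat.ofHom (RingHom.id A)) = _
  rw [CommRingCat.ofHom_id, Spec.map_id]
  rfl

theorem eq_spMap (f : A →ₐ[R] B) (t : sp (R := R) B ⟶ sp A)
    (h : t.left = Spec.map (CommRingCat.ofHom f.toRingHom)) : t = spMap f :=
  Over.OverMorphism.ext h

variable {G : Over (Spec (CommRingCat.of R))}

/-- Functoriality of points. -/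
def pull (f : A →ₐ[R] B) (x : sp A ⟶ G) : sp B ⟶ G := spMap f ≫ x

theorem pull_pull (f : A →ₐ[R] B) (g : B →ₐ[R] C) (x : sp A ⟶ G) :
    pull g (pull f x) = pull (g.comp f) x := by
  rw [pull, pull, pull, spMap_comp, Category.assoc]

theorem pull_id (x : sp A ⟶ G) : pull (AlgHom.id R A) x = x := by
  rw [pull, spMap_id, Category.id_comp]

section Grp

variable [GrpObj G]

theorem pull_one (f : A →ₐ[R] B) : pull f (1 : sp A ⟶ G) = 1 := MonObj.comp_one _

theorem pull_mul (f : A →ₐ[R] B) (x y : sp A ⟶ G) : pull f (x * y) = pull f x * pull f y :=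
  MonObj.comp_mul _ _ _

theorem pull_inv (f : A →ₐ[R] B) (x : sp A ⟶ G) : pull f x⁻¹ = (pull f x)⁻¹ :=
  GrpObj.comp_inv _ _

end Grp

/-- Points glue along fibre squares of rings. -/
theorem exists_glue (f : D →ₐ[R] A) (g : D →ₐ[R] B) (p : A →ₐ[R] C) (q : B →ₐ[R] C)
    (h : Misc6.FibreSquare g.toRingHom f.toRingHom q.toRingHom p.toRingHom)
    (x : sp A ⟶ G) (y : sp B ⟶ G) (hxy : pull p x = pull q y) :
    ∃ z : sp D ⟶ G, pull f z = x ∧ pull g z = y := by
  have hpo := Misc6.isPushout_spec (P := CommRingCat.of D) (B := CommRingCat.of B)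
    (A' := CommRingCat.of A) (A := CommRingCat.of C) (f := CommRingCat.ofHom g.toRingHom)
    (g := CommRingCat.ofHom f.toRingHom) (q := CommRingCat.ofHom q.toRingHom)
    (p := CommRingCat.ofHom p.toRingHom) h
  have w : Spec.map (CommRingCat.ofHom p.toRingHom) ≫ x.left =
      Spec.map (CommRingCat.ofHom q.toRingHom) ≫ y.left := congrArg (fun m => m.left) hxy
  let l := hpo.desc x.left y.left w
  have hl : l ≫ G.hom = Spec.map (CommRingCat.ofHom (algebraMap R D)) := by
    refine hpo.hom_ext ?_ ?_
    · simp only [l]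
      rw [← Category.assoc, hpo.inl_desc]
      exact (Over.w x).trans (Over.w (spMap f)).symm
    · simp only [l]
      rw [← Category.assoc, hpo.inr_desc]
      exact (Over.w y).trans (Over.w (spMap g)).symm
  exact ⟨Over.homMk l hl, Over.OverMorphism.ext (hpo.inl_desc _ _ _),
    Over.OverMorphism.ext (hpo.inr_desc _ _ _)⟩

/-- A point of a directed colimit of algebras comes from a stage. -/
theorem exists_stage [LocallyOfFinitePresentation G.hom] (Fn : ℕ → Type u) [∀ n, CommRing (Fn n)]
    [∀ n, Algebra R (Fn n)] (t : ∀ n m, n ≤ m → Fn n →ₐ[R] Fn m)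
    (ht : ∀ n, t n n le_rfl = AlgHom.id R (Fn n))
    (htt : ∀ n m l (h : n ≤ m) (h' : m ≤ l), (t m l h').comp (t n m h) = t n l (h.trans h'))
    (φ : ∀ n, Fn n →ₐ[R] C) (hφ : ∀ n m h, (φ m).comp (t n m h) = φ n)
    (hsurj : ∀ c : C, ∃ n x, φ n x = c)
    (hinj : ∀ n x, φ n x = 0 → ∃ m h, t n m h x = 0)
    (a : sp C ⟶ G) : ∃ n, ∃ g : sp (Fn n) ⟶ G, pull (φ n) g = a := by
  let F : ULift.{u} ℕ ⥤ CommRingCat.{u} :=
    { obj := fun n => CommRingCat.of (Fn n.down)
      map := fun {n m} h => CommRingCat.ofHom (t n.down m.down (ULift.down_le.mpr (leOfHom h))).toRingHom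
      map_id := fun n => by rw [ht]; rfl
      map_comp := fun {n m l} h h' => by
        exact congrArg (fun e : Fn n.down →ₐ[R] Fn l.down => CommRingCat.ofHom e.toRingHom)
          (htt n.down m.down l.down (ULift.down_le.mpr (leOfHom h)) (ULift.down_le.mpr (leOfHom h'))).symm }
  let cc : Cocone F :=
    { pt := CommRingCat.of C
      «ι» :=
        { app := fun n => CommRingCat.ofHom (φ n.down).toRingHom
          naturality := fun n m h => by
            refine Eq.trans ?_ (Category.comp_id _).symm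
            exact congrArg (fun e : Fn n.down →ₐ[R] C => CommRingCat.ofHom e.toRingHom)
              (hφ n.down m.down (ULift.down_le.mpr (leOfHom h))) } }
  have : ReflectsColimit F (forget CommRingCat) := reflectsColimit_of_reflectsIsomorphisms F (forget CommRingCat)
  have hcc : IsColimit cc := isColimitOfReflects (forget CommRingCat) (by
    refine Types.FilteredColimit.isColimitOf' _ _ (fun c => ?_) (fun n x y hxy => ?_)
    · obtain ⟨n, x, hx⟩ := hsurj c
      exact ⟨⟨n⟩, x, hx.symm⟩
    · replace hxy : φ n.down x = φ n.down y := hxy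
      obtain ⟨m, h, hm⟩ := hinj n.down (x - y) (by
        show φ n.down (x - y) = 0
        rw [map_sub, hxy, sub_self])
      rw [map_sub, sub_eq_zero] at hm
      exact ⟨⟨m⟩, homOfLE (ULift.down_le.mp h), hm⟩)
  let Dg : (ULift.{u} ℕ)ᵒᵖ ⥤ Scheme.{u} := F.op ⋙ Scheme.Spec
  let c : Cone Dg := Scheme.Spec.mapCone cc.op
  have hc : IsLimit c := isLimitOfPreserves Scheme.Spec hcc.op
  let tt : Dg ⟶ (Functor.const _).obj (Spec (CommRingCat.of R)) :=
    { app := fun n => Spec.map (CommRingCat.ofHom (algebraMap R (Fn n.unop.down)))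
      naturality := fun n m h => by
        refine Eq.trans ?_ (Category.comp_id _).symm
        exact Over.w (spMap (t m.unop.down n.unop.down (ULift.down_le.mpr (leOfHom h.unop)))) }
  have : ∀ {i j} (h : i ⟶ j), IsAffineHom (Dg.map h) := fun h => by
    dsimp [Dg]; infer_instance
  have : ∀ i, CompactSpace (Dg.obj i) := fun i => by dsimp [Dg]; infer_instance
  have : ∀ i, QuasiSeparatedSpace (Dg.obj i) := fun i => by dsimp [Dg]; infer_instance
  obtain ⟨i, g, hg, hg'⟩ := Scheme.exists_π_app_comp_eq_of_locallyOfFinitePresentation Dg tt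
    G.hom c hc a.left (by
      ext n
      exact (Over.w (spMap (φ n.unop.down))).trans (Over.w a).symm)
  exact ⟨i.unop.down, Over.homMk g hg', Over.OverMorphism.ext hg⟩

end

end GrothLib.QuillenG21
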