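import Groth.Agent.Lib.QuillenG21.Basic
import Mathlib.RingTheory.Localization.Away.Basic
import Mathlib.Algebra.Polynomial.AlgebraMap
import Mathlib.Algebra.Polynomial.Eval.Degree

/-!
# Points over `A[1/r][X]` trivial at `0`
-/

universe u

open CategoryTheory Limits AlgebraicGeometry Opposite Polynomial
open scoped MonObj

namespace GrothLib.QuillenG21

noncomputable section

variable {R : Type u} [CommRing R] (A B : Type u) [CommRing A] [CommRing B] [Algebra R A]
  [Algebra R B] [Algebra A B] [IsScalarTower R A B]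

/-- Evaluation at zero. -/
abbrev ev0 : A[X] →ₐ[R] A := (aeval (0 : A)).restrictScalars R

/-- The substitution `X ↦ a X`. -/
abbrev scaleA (a : A) : A[X] →ₐ[R] A[X] := (aeval (C a * X)).restrictScalars R

/-- `X ↦ b X` into `B[X]`. -/
abbrev scaleB (b : B) : A[X] →ₐ[R] B[X] := (aeval (C b * X)).restrictScalars R

variable {A B}

theorem coeff_scaleB (b : B) (q : A[X]) (i : ℕ) :
    (scaleB (R := R) A B b q).coeff i = algebraMap A B (q.coeff i) * b ^ i := by
  show (aeval (C b * X) q).coeff i = _
  rw [aeval_def, IsScalarTower.algebraMap_eq A B B[X], ← eval₂_map, algebraMap_eq, ← comp,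
    comp_C_mul_X_coeff, coeff_map]

theorem coeff_scaleA (a : A) (q : A[X]) (i : ℕ) :
    (scaleA (R := R) A a q).coeff i = q.coeff i * a ^ i :=
  coeff_scaleB (R := R) (A := A) (B := A) a q i

variable (A B) in
/-- Pairs of a polynomial over `B` and an element of `A` with the same value at zero. -/
abbrev fibre : Subalgebra R (A × B[X]) :=
  AlgHom.equalizer ((IsScalarTower.toAlgHom R A B).comp (AlgHom.fst R A B[X]))
    ((ev0 B).comp (AlgHom.snd R A B[X]))

theorem mem_fibre (x : A × B[X]) : x ∈ fibre (R := R) A B ↔ algebraMap A B x.1 = x.2.coeff 0 := by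
  rw [AlgHom.mem_equalizer, coeff_zero_eq_aeval_zero]
  exact Iff.rfl

variable {G : Over (Spec (CommRingCat.of R))} [GrpObj G] [LocallyOfFinitePresentation G.hom]

/-- A point over `A[1/r][X]` trivial at zero extends to `A[X]` after `X ↦ r ^ N X`. -/
theorem exists_scale_lift (r : A) [IsLocalization.Away r B]
    (g : sp B[X] ⟶ G) (hg : pull (ev0 B) g = 1) :
    ∃ (N : ℕ) (g₁ : sp A[X] ⟶ G), pull (ev0 A) g₁ = 1 ∧
      pull (scaleB A B 1) g₁ = pull (scaleA B (algebraMap A B (r ^ N))) g := by
  let S := fibre (R := R) A B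
  let p : A →ₐ[R] B := IsScalarTower.toAlgHom R A B
  let pr₁ : S →ₐ[R] A := (AlgHom.fst R A B[X]).comp S.val
  let pr₂ : S →ₐ[R] B[X] := (AlgHom.snd R A B[X]).comp S.val
  have hsq : Misc6.FibreSquare pr₁.toRingHom pr₂.toRingHom p.toRingHom (ev0 (R := R) B).toRingHom :=
    { w := RingHom.ext fun x => x.2
      inj := fun x h1 h2 => Subtype.ext (Prod.ext h1 h2)
      ex := fun a q h => ⟨⟨(a, q), h⟩, rfl, rfl⟩
      surj := fun b => ⟨C b, aeval_C (0 : B) b⟩ }
  obtain ⟨a, ha₂, ha₁⟩ := exists_glue pr₂ pr₁ (ev0 B) p hsq g (1 : sp A ⟶ G)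
    (by rw [hg, pull_one])
  have hu : IsUnit (algebraMap A B r) := IsLocalization.Away.algebraMap_isUnit r
  let ri : B := ↑hu.unit⁻¹
  have hri : ri * algebraMap A B r = 1 := hu.val_inv_mul
  let φ : ∀ n : ℕ, A[X] →ₐ[R] S := fun n =>
    ((ev0 A).prod (scaleB A B (ri ^ n))).codRestrict S fun q => by
      rw [mem_fibre]
      show algebraMap A B (aeval (0 : A) q) = (scaleB (R := R) A B (ri ^ n) q).coeff 0
      rw [coeff_scaleB, ← coeff_zero_eq_aeval_zero, pow_zero, mul_one]
  let t : ∀ n m : ℕ, n ≤ m → A[X] →ₐ[R] A[X] := fun n m _ => scaleA A (r ^ (m - n))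
  obtain ⟨n, z, hz⟩ := exists_stage (fun _ => A[X]) t
    (fun n => AlgHom.ext fun q => Polynomial.ext fun i => by simp [t, coeff_scaleA])
    (fun n m l h h' => AlgHom.ext fun q => Polynomial.ext fun i => by
      rw [AlgHom.comp_apply, coeff_scaleA, coeff_scaleA, coeff_scaleA, mul_assoc, ← mul_pow,
        ← pow_add, Nat.add_comm, Nat.sub_add_sub_cancel h' h])
    φ
    (fun n m h => AlgHom.ext fun q => Subtype.ext (Prod.ext
      (by
        show aeval (0 : A) (scaleA (R := R) A (r ^ (m - n)) q) = aeval (0 : A) q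
        rw [← coeff_zero_eq_aeval_zero, ← coeff_zero_eq_aeval_zero, coeff_scaleA, pow_zero, mul_one])
      (Polynomial.ext fun i => by
        show (scaleB (R := R) A B (ri ^ m) (scaleA (R := R) A (r ^ (m - n)) q)).coeff i =
          (scaleB (R := R) A B (ri ^ n) q).coeff i
        rw [coeff_scaleB, coeff_scaleA, coeff_scaleB, map_mul, map_pow, map_pow, mul_assoc,
          ← mul_pow]
        congr 2
        rw [show ri ^ m = ri ^ (m - n) * ri ^ n by rw [← pow_add, Nat.sub_add_cancel h], ← mul_assoc,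
          ← mul_pow, mul_comm _ ri, hri, one_pow, one_mul])))
    (by
      rintro ⟨⟨c, q⟩, hcq⟩
      rw [mem_fibre] at hcq
      dsimp only at hcq
      suffices h : ∃ n x, x.coeff 0 = c ∧ scaleB (R := R) A B (ri ^ n) x = q by
        obtain ⟨n, x, h1, h2⟩ := h
        exact ⟨n, x, Subtype.ext (Prod.ext ((coeff_zero_eq_aeval_zero x).symm.trans h1) h2)⟩
      obtain ⟨M, hM⟩ := IsLocalization.exist_integer_multiples (Submonoid.powers r) q.support q.coeff
      obtain ⟨N, hN⟩ := M.2
      dsimp only at hN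
      have hcoeff : ∀ i, ∃ d : A, algebraMap A B d = algebraMap A B r ^ N * q.coeff i := fun i => by
        by_cases hi : i ∈ q.support
        · obtain ⟨d, hd⟩ := hM i hi
          exact ⟨d, by rw [hd, Algebra.smul_def, ← hN, map_pow]⟩
        · exact ⟨0, by rw [map_zero, notMem_support_iff.mp hi, mul_zero]⟩
      choose d hd using hcoeff
      refine ⟨N, C c + ∑ i ∈ q.support.erase 0, monomial i (r ^ (N * (i - 1)) * d i), ?_, ?_⟩
      · simp [coeff_monomial]
      · refine Polynomial.ext fun i => ?_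
        rw [coeff_scaleB, coeff_add, finsetSum_coeff]
        simp only [coeff_monomial]
        rw [Finset.sum_ite_eq']
        obtain rfl | hi0 := eq_or_ne i 0
        · simpa using hcq
        · by_cases hi : i ∈ q.support
          · rw [if_pos (Finset.mem_erase.mpr ⟨hi0, hi⟩), coeff_C_of_ne_zero hi0, zero_add, map_mul,
              map_pow, hd, ← pow_mul]
            rw [show algebraMap A B r ^ (N * (i - 1)) * (algebraMap A B r ^ N * q.coeff i) *
              ri ^ (N * i) = (algebraMap A B r ^ (N * (i - 1) + N) * ri ^ (N * i)) * q.coeff i by ring,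
              show N * (i - 1) + N = N * i by rw [← Nat.mul_succ]; congr 1; omega,
              ← mul_pow, mul_comm _ ri, hri, one_pow, one_mul]
          · rw [if_neg (fun h => hi (Finset.mem_erase.mp h).2), coeff_C_of_ne_zero hi0, zero_add,
              map_zero, zero_mul, notMem_support_iff.mp hi])
    (fun n q hq => by
      have h0 : q.coeff 0 = 0 :=
        (coeff_zero_eq_aeval_zero q).trans (congrArg (fun x : S => x.1.1) hq)
      have h2 : ∀ i, algebraMap A B (q.coeff i) = 0 := fun i => by
        have : (scaleB (R := R) A B (ri ^ n) q).coeff i = 0 := by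
          rw [show scaleB (R := R) A B (ri ^ n) q = 0 from congrArg (fun x : S => x.1.2) hq,
            coeff_zero]
        rw [coeff_scaleB] at this
        exact ((hu.unit⁻¹.isUnit.pow n).pow i).mul_left_eq_zero.mp this
      have h3 : ∀ i, ∃ k, r ^ k * q.coeff i = 0 := fun i => by
        obtain ⟨⟨_, k, rfl⟩, hk⟩ := (IsLocalization.map_eq_zero_iff (Submonoid.powers r) B _).mp (h2 i)
        exact ⟨k, hk⟩
      choose k hk using h3
      refine ⟨n + q.support.sup k, Nat.le_add_right _ _, Polynomial.ext fun i => ?_⟩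
      rw [coeff_scaleA, coeff_zero, Nat.add_sub_cancel_left]
      obtain rfl | hi0 := eq_or_ne i 0
      · rw [h0, zero_mul]
      by_cases hi : i ∈ q.support
      · obtain ⟨e, he⟩ := Nat.exists_eq_add_of_le
          ((Finset.le_sup (f := k) hi).trans (Nat.le_mul_of_pos_right _ (Nat.pos_of_ne_zero hi0)))
        rw [← pow_mul, he, pow_add, ← mul_assoc, mul_comm (q.coeff i), hk, zero_mul]
      · rw [notMem_support_iff.mp hi, zero_mul])
    a
  refine ⟨n, z, ?_, ?_⟩
  · rw [show (ev0 (R := R) A) = pr₁.comp (φ n) from rfl, ← pull_pull, hz, ha₁]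
  · rw [← ha₂, ← hz, pull_pull, pull_pull]
    refine congrArg (fun e => pull e z) (AlgHom.ext fun q => Polynomial.ext fun i => ?_)
    show (scaleB (R := R) A B 1 q).coeff i =
      (scaleA (R := R) B (algebraMap A B (r ^ n)) (scaleB (R := R) A B (ri ^ n) q)).coeff i
    rw [coeff_scaleA, coeff_scaleB, coeff_scaleB, mul_assoc, ← mul_pow, map_pow, ← mul_pow, hri]
    simp

end

end GrothLib.QuillenG21
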